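import Groth.Prelude.Def_Dieu
import Groth.Prelude.Def_WittGrp
import Mathlib

/-!
# Witt vectors and the Amitsur equalizer of a faithfully flat map
-/

set_option autoImplicit false
universe u v w w'

open scoped TensorProduct

namespace Groth.Agent.WittExact

theorem exists_eq_algebraMap {S : Type u} {R : Type v} [CommRing S] [CommRing R] [Algebra S R]
    [Module.FaithfullyFlat S R] (x : R) (hx : x ⊗ₜ[S] (1 : R) = (1 : R) ⊗ₜ[S] x) : ∃ s, algebraMap S R s = x := by
  let q := (LinearMap.range (Algebra.linearMap S R)).mkQ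
  have h0 : q 1 = 0 := (Submodule.Quotient.mk_eq_zero _).2 ⟨1, map_one (algebraMap S R)⟩
  have h1 := congrArg (q.rTensor R) hx
  rw [LinearMap.rTensor_tmul, LinearMap.rTensor_tmul, h0, TensorProduct.zero_tmul] at h1
  have h2 : (1 : R) ⊗ₜ[S] q x = 0 := by
    rw [← TensorProduct.comm_tmul S, h1, map_zero]
  have h3 : q x = 0 := Module.FaithfullyFlat.tensorProduct_mk_injective (A := S) (B := R) _
    (h2.trans (map_zero _).symm)
  exact (Submodule.Quotient.mk_eq_zero _).1 h3

theorem witt_equalizer (p : ℕ) [Fact p.Prime] (S R : Type u) [CommRing S] [CommRing R] [Algebra S R]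
    [Module.FaithfullyFlat S R] (b : WittVector p R)
    (hb : WittVector.map (Algebra.TensorProduct.includeLeftRingHom : R →+* TensorProduct S R R) b =
      WittVector.map ((Algebra.TensorProduct.includeRight : R →ₐ[S] TensorProduct S R R) : R →+* TensorProduct S R R) b) :
    ∃ a, WittVector.map (algebraMap S R) a = b := by
  have h : ∀ n, ∃ s, algebraMap S R s = b.coeff n := fun n => exists_eq_algebraMap _ (by
    have := congrArg (fun w => WittVector.coeff w n) hb
    simpa [WittVector.map_coeff] using this)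
  choose s hs using h
  exact ⟨WittVector.mk p s, WittVector.ext fun n => by simp [WittVector.map_coeff, hs]⟩

theorem trunc_equalizer (p : ℕ) [Fact p.Prime] (n : ℕ) (S R : Type u) [CommRing S] [CommRing R] [Algebra S R]
    [Module.FaithfullyFlat S R] (b : TruncatedWittVector p n R)
    (hb : WittGrp.truncMap p n (Algebra.TensorProduct.includeLeftRingHom : R →+* TensorProduct S R R) b =
      WittGrp.truncMap p n ((Algebra.TensorProduct.includeRight : R →ₐ[S] TensorProduct S R R) : R →+* TensorProduct S R R) b) :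
    ∃ a, WittGrp.truncMap p n (algebraMap S R) a = b := by
  have h : ∀ i, ∃ s, algebraMap S R s = b.coeff i := fun i => exists_eq_algebraMap _ (by
    have := congrArg (fun w => TruncatedWittVector.coeff i w) hb
    simpa [WittGrp.coeff_truncMap] using this)
  choose s hs using h
  exact ⟨TruncatedWittVector.mk p s, TruncatedWittVector.ext fun i => by simp [WittGrp.coeff_truncMap, hs]⟩

/-- Tensoring an equalizer of rings with a flat module. -/
theorem bc_equalizer {A : Type u} {B : Type v} {C : Type w'} [CommRing A] [CommRing B] [CommRing C]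
    (g : A →+* B) (i₁ i₂ : B →+* C) (e : i₁.comp g = i₂.comp g) (hg : Function.Injective g)
    (heq : ∀ b, i₁ b = i₂ b → ∃ a, g a = b) (M : Type w) [AddCommGroup M] [Module A M] [Module.Flat A M] :
    Function.Injective (Dieu.BC.ι g M) ∧
      ∀ z, (Dieu.BC.castHom e (Dieu.BC.push g i₁ z) = Dieu.BC.push g i₂ z ↔ z ∈ Set.range (Dieu.BC.ι g M)) := by
  let ι₀ : A →ₗ[A] Dieu.Res g :=
    { toFun := fun a => Dieu.Res.mk g (g a)
      map_add' := fun a b => Dieu.Res.ext g (map_add g a b)
      map_smul' := fun a b => Dieu.Res.ext g (map_mul g a b) }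
  let L₁ : Dieu.Res g →ₗ[A] Dieu.Res (i₂.comp g) :=
    { toFun := fun b => Dieu.Res.mk _ (i₁ b.val)
      map_add' := fun a b => Dieu.Res.ext _ (map_add i₁ a.val b.val)
      map_smul' := fun a b => Dieu.Res.ext _ ((map_mul i₁ (g a) b.val).trans
        (congrArg (· * i₁ b.val) (RingHom.congr_fun e a))) }
  let L₂ : Dieu.Res g →ₗ[A] Dieu.Res (i₂.comp g) :=
    { toFun := fun b => Dieu.Res.mk _ (i₂ b.val)
      map_add' := fun a b => Dieu.Res.ext _ (map_add i₂ a.val b.val)
      map_smul' := fun a b => Dieu.Res.ext _ (map_mul i₂ (g a) b.val) }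
  have hex : Function.Exact ι₀ (L₁ - L₂) := fun b => by
    refine ⟨fun hb => ?_, ?_⟩
    · rw [LinearMap.sub_apply, sub_eq_zero] at hb
      obtain ⟨a, ha⟩ := heq b.val (congrArg Dieu.Res.val hb)
      exact ⟨a, Dieu.Res.ext g ha⟩
    · rintro ⟨a, rfl⟩
      rw [LinearMap.sub_apply, sub_eq_zero]
      exact Dieu.Res.ext _ (RingHom.congr_fun e a)
  have hι : ∀ x : M, Dieu.BC.ι g M x = ι₀.rTensor M ((1 : A) ⊗ₜ[A] x) := fun x => by
    rw [LinearMap.rTensor_tmul]
    show Dieu.Res.mk g (1 : B) ⊗ₜ[A] x = Dieu.Res.mk g (g 1) ⊗ₜ[A] x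
    rw [map_one]
  have hinj : Function.Injective (ι₀.rTensor M) :=
    Module.Flat.rTensor_preserves_injective_linearMap (R := A) (M := M) ι₀
      (fun a b h => hg (congrArg Dieu.Res.val h))
  refine ⟨fun x y h => ?_, fun z => ?_⟩
  · rw [hι, hι] at h
    exact (TensorProduct.lid A M).symm.injective (hinj h)
  · have h₁ : ∀ w : Dieu.BC g M, Dieu.BC.castHom e (Dieu.BC.push g i₁ w) = L₁.rTensor M w := fun w => by
      induction w using Dieu.BC.induction_on g with
      | zero => rw [map_zero, map_zero]; exact (map_zero (L₁.rTensor M)).symm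
      | tmul b x => rw [Dieu.BC.push_tmul, Dieu.BC.castHom_tmul]; rfl
      | add a b ha hb => rw [map_add, map_add, ha, hb]; exact (map_add (L₁.rTensor M) a b).symm
    have h₂ : ∀ w : Dieu.BC g M, Dieu.BC.push g i₂ w = L₂.rTensor M w := fun w => by
      induction w using Dieu.BC.induction_on g with
      | zero => rw [map_zero]; exact (map_zero (L₂.rTensor M)).symm
      | tmul b x => rw [Dieu.BC.push_tmul]; rfl
      | add a b ha hb => rw [map_add, ha, hb]; exact (map_add (L₂.rTensor M) a b).symm
    rw [h₁, h₂]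
    refine ⟨fun hz => ?_, ?_⟩
    · have h0 : (L₁ - L₂).rTensor M z = 0 := by
        rw [LinearMap.rTensor_sub, LinearMap.sub_apply]
        exact sub_eq_zero.2 hz
      obtain ⟨y, hy⟩ := (Module.Flat.rTensor_exact M hex z).1 h0
      refine ⟨TensorProduct.lid A M y, ?_⟩
      rw [hι, ← TensorProduct.lid_symm_apply, LinearEquiv.symm_apply_apply]
      exact hy
    · rintro ⟨x, rfl⟩
      rw [hι, LinearMap.rTensor_tmul, LinearMap.rTensor_tmul, LinearMap.rTensor_tmul]
      exact congrArg (fun t => (t : Dieu.Res (i₂.comp g)) ⊗ₜ[A] x) (Dieu.Res.ext _ (RingHom.congr_fun e 1))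

theorem castHom_castHom {A : Type u} {B : Type v} [CommRing A] [CommRing B] {M : Type w} [AddCommGroup M]
    [Module A M] {g g' g'' : A →+* B} (e : g = g') (e' : g' = g'') (z : Dieu.BC g M) :
    Dieu.BC.castHom e' (Dieu.BC.castHom e z) = Dieu.BC.castHom (e.trans e') z := by
  subst e; subst e'; rfl

end Groth.Agent.WittExact
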